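import Mathlib.Algebra.Algebra.Subalgebra.Basic
import Mathlib.RingTheory.Adjoin.Basic
import Mathlib.RingTheory.Nilpotent.Basic
import Mathlib.GroupTheory.Index
import Mathlib.GroupTheory.OrderOfElement
import Mathlib.LinearAlgebra.Matrix.GeneralLinearGroup.Defs
import Mathlib.Tactic.LinearCombination

/-! Hilbert's theorem 90 for finite algebras with a semilinear involution. -/

set_option autoImplicit false

namespace Cfsg.Lib.Bmo

open Matrix

theorem exists_idem {B : Type*} [Monoid B] [Finite B] (x : B) :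
    ∃ m, x ^ (m + 1) * x ^ (m + 1) = x ^ (m + 1) := by
  obtain ⟨i, j, hij, e⟩ : ∃ i j : ℕ, i < j ∧ x ^ i = x ^ j := by
    obtain ⟨i, j, h, e⟩ := Finite.exists_ne_map_eq_of_infinite fun i : ℕ => x ^ i
    rcases lt_or_gt_of_ne h with h | h
    exacts [⟨i, j, h, e⟩, ⟨j, i, h, e.symm⟩]
  obtain ⟨k, rfl⟩ := Nat.exists_eq_add_of_lt hij
  have h : ∀ l, x ^ (i + (k + 1) * l) = x ^ i := fun l => by
    induction l with
    | zero => simp
    | succ l ih => rw [mul_add, ← add_assoc, pow_add, ih, mul_one, ← pow_add, ← add_assoc, ← e]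
  refine ⟨(k + 1) * (i + 1) - 1, ?_⟩
  have e0 : (k + 1) * (i + 1) - 1 + 1 = (k + 1) * (i + 1) :=
    Nat.sub_add_cancel (Nat.mul_pos k.succ_pos i.succ_pos)
  have e1 : (k + 1) * (i + 1) - 1 + 1 = i + (k * i + k + 1) := by rw [e0]; ring
  nth_rewrite 1 [e1]
  rw [e0, ← pow_add, add_right_comm, pow_add, h, ← pow_add]
  congr 1; ring

section comm

variable {B : Type*} [CommRing B] [Finite B] {s : B →+* B} (hs : ∀ x, s (s x) = x) {δ : B}
  (hδ : IsUnit δ) (hδ' : s δ = -δ) (h2 : IsUnit (2 : B))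
include hs hδ hδ' h2

theorem h90 {a : B} (ha : a * s a = 1) : ∃ b, IsUnit b ∧ a * s b = b := by
  obtain ⟨m, hm⟩ := exists_idem (1 + a)
  have e1 : s ((1 + a) ^ (m + 1)) = s a ^ (m + 1) * (1 + a) ^ (m + 1) := by
    rw [map_pow, ← mul_pow, map_add, map_one]; congr 1; linear_combination -ha
  have e0 : (1 + a) * (1 + a) ^ m = (1 + a) ^ (m + 1) := (pow_succ' _ _).symm
  have hn : IsNilpotent ((1 + a) * (1 - (1 + a) ^ (m + 1))) :=
    ⟨m + 1, by rw [mul_pow, pow_succ' (1 - _), ← mul_assoc, mul_sub, mul_one, hm, sub_self, zero_mul]⟩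
  generalize (1 + a) ^ (m + 1) = f at *
  have e2 : a ^ (m + 1) * s a ^ (m + 1) = 1 := by rw [← mul_pow, ha, one_pow]
  have e3 : s f * s f = s f := by rw [← map_mul, hm]
  have e4 : s f = f := by
    generalize a ^ (m + 1) = u at e2
    generalize s a ^ (m + 1) = v at e1 e2
    generalize s f = g at e1 e3
    subst e1
    linear_combination u * e3 - (v * f * f - f) * e2 - v * hm
  obtain ⟨w, hw⟩ := ((hn.neg.isUnit_add_right_of_commute h2 (.all _ _)).mul hδ).exists_right_inv
  refine ⟨(1 + a) * f + δ * (1 - a) * (1 - f), .of_mul_eq_one ((1 + a) ^ m * f + w * (1 - f)) ?_, ?_⟩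
  · linear_combination f * f * e0 + (1 - f) * (1 - f) * hw + (f + 2 + (1 + a) * w * δ * (1 - f)
      - δ * (1 - a) * (1 + a) ^ m - (1 + a) * w) * hm
  · simp only [map_add, map_mul, map_sub, map_one, e4, hδ']
    linear_combination (f + δ * (1 - f)) * ha

theorem norm_surj {a : B} (hu : IsUnit a) (ha : s a = a) : ∃ b, b * s b = a := by
  let t : Bˣ →* Bˣ := Units.map s.toMonoidHom
  have tt : ∀ u, t (t u) = u := fun u => Units.ext (hs u)
  let N : Bˣ →* Bˣ := MonoidHom.id _ * t
  let D : Bˣ →* Bˣ := MonoidHom.id _ / t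
  have h1 : N.ker ≤ D.range := fun u hu => by
    obtain ⟨b, hb, e⟩ := h90 hs hδ hδ' h2 (congrArg Units.val hu)
    exact ⟨hb.unit, div_eq_iff_eq_mul.2 (Units.ext e.symm)⟩
  have h3 : N.range ≤ D.ker := by
    rintro _ ⟨u, rfl⟩
    change u * t u / t (u * t u) = 1
    rw [map_mul, tt, mul_comm, div_self']
  have c1 := N.ker.card_mul_index
  have c2 := D.ker.card_mul_index
  rw [Subgroup.index_ker] at c1 c2
  have := Subgroup.eq_of_le_of_card_ge h3 (Nat.le_of_mul_le_mul_right (by
    rw [c2, ← c1, mul_comm]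
    exact Nat.mul_le_mul_left _ (Subgroup.card_le_of_le h1)) Nat.card_pos)
  obtain ⟨b, hb⟩ : hu.unit ∈ N.range := this ▸ (div_eq_one.2 (Units.ext ha.symm) : D hu.unit = 1)
  exact ⟨b, congrArg Units.val hb⟩

end comm

variable {K M : Type*} [Field K] [Ring M] [Algebra K M]

/-- A semilinear involution that is multiplicative on commuting elements. -/
structure St (σ : K →+* K) (st : M →+ M) : Prop where
  one : st 1 = 1
  mul : ∀ x y, x * y = y * x → st (x * y) = st x * st y
  smul : ∀ c x, st (c • x) = σ c • st x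
  inv : ∀ x, st (st x) = x
  two : (2 : K) ≠ 0
  ex : ∃ δ : K, δ ≠ 0 ∧ σ δ = -δ

open scoped IsMulCommutative in
theorem St.main [Finite M] {σ : K →+* K} {st : M →+ M} (h : St σ st) {a : Mˣ}
    (ha : st a ∈ Algebra.adjoin K {(a : M)}) :
    (a * st a = 1 → ∃ b : Mˣ, (∀ x, Commute a x → Commute b x) ∧ a * st b = b) ∧
      (st a = a → ∃ b : Mˣ, (∀ x, Commute a x → Commute b x) ∧ b * st b = a) := by
  let B := Algebra.adjoin K {(a : M)}
  have hc : ∀ x ∈ B, ∀ y ∈ B, x * y = y * x := fun x hx y hy =>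
    congrArg Subtype.val (mul_comm (⟨x, hx⟩ : B) ⟨y, hy⟩)
  have ha' : ∀ c : K, st (algebraMap K M c) = algebraMap K M (σ c) := fun c => by
    rw [Algebra.algebraMap_eq_smul_one, h.smul, h.one, Algebra.algebraMap_eq_smul_one]
  have hm : ∀ x ∈ B, st x ∈ B := fun x hx => by
    induction hx using Algebra.adjoin_induction with
    | mem x hx => exact hx ▸ ha
    | algebraMap c => exact ha' c ▸ B.algebraMap_mem _
    | add x y _ _ a b => rw [map_add]; exact add_mem a b
    | mul x y hx hy a b => rw [h.mul x y (hc x hx y hy)]; exact mul_mem a b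
  let s : B →+* B :=
    { toFun := fun x => ⟨st x, hm x x.2⟩
      map_one' := Subtype.ext h.one
      map_mul' := fun x y => Subtype.ext (h.mul x y (hc x x.2 y y.2))
      map_zero' := Subtype.ext (map_zero st)
      map_add' := fun x y => Subtype.ext (map_add st x.1 y.1) }
  have hs : ∀ x, s (s x) = x := fun x => Subtype.ext (h.inv x)
  obtain ⟨δ, d0, d1⟩ := h.ex
  have hδ : IsUnit (algebraMap K B δ) := (Ne.isUnit d0).map _
  have hδ' : s (algebraMap K B δ) = -algebraMap K B δ :=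
    Subtype.ext ((ha' δ).trans (by rw [d1, map_neg]; rfl))
  have h2 : IsUnit (2 : B) := by
    have := (Ne.isUnit h.two).map (algebraMap K B)
    rwa [map_ofNat] at this
  let a' : B := ⟨a, Algebra.self_mem_adjoin_singleton K _⟩
  have hb : ∀ (b : B) (u : IsUnit b) (x : Mˣ), Commute a x → Commute (u.map B.val).unit x :=
    fun b u x hx => Commute.units_val_iff.1
      (Algebra.commute_of_mem_adjoin_singleton_of_commute b.2 hx.units_val.symm).symm
  have hu : IsUnit a' := .of_pow_eq_one (n := orderOf a) (Subtype.ext (by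
    rw [SubmonoidClass.coe_pow, ← Units.val_pow_eq_pow_val, pow_orderOf_eq_one]; rfl))
    (orderOf_pos a).ne'
  refine ⟨fun e => ?_, fun e => ?_⟩
  · obtain ⟨b, u, e⟩ := h90 hs hδ hδ' h2 (a := a') (Subtype.ext e)
    exact ⟨_, hb b u, congrArg Subtype.val e⟩
  · obtain ⟨b, e⟩ := norm_surj hs hδ hδ' h2 hu (Subtype.ext e)
    exact ⟨_, hb b (isUnit_of_mul_isUnit_left (e ▸ hu)), congrArg Subtype.val e⟩

variable {I : Type*} [Fintype I] [DecidableEq I]

/-- The twisted map `g ↦ (g^σ)^{-T}`. -/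
def tw (σ : K →+* K) : GL I K →* GL I K where
  toFun g := ⟨((GeneralLinearGroup.map σ g)⁻¹).valᵀ, (GeneralLinearGroup.map σ g).valᵀ,
    by rw [← transpose_mul, Units.mul_inv, transpose_one],
    by rw [← transpose_mul, Units.inv_mul, transpose_one]⟩
  map_one' := Units.ext (by simp)
  map_mul' a b := Units.ext (by
    change _ᵀ = _ᵀ * _ᵀ
    rw [map_mul, _root_.mul_inv_rev, Units.val_mul, transpose_mul])

theorem tw_inv (σ : K →+* K) (g : GL I K) : ((tw σ g)⁻¹).val = (g.val.map σ)ᵀ := rfl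

theorem tw_val (σ : K →+* K) (g : GL I K) : (tw σ g).val = ((g⁻¹).val.map σ)ᵀ := rfl

/-- Cocycles split inside their double centralizers. -/
def Lang {Γ : Type*} [Group Γ] (θ : Γ →* Γ) : Prop :=
  ∀ a, a * θ a = 1 → ∃ b, a * θ b = b ∧ ∀ x, Commute a x → Commute b x

variable [Finite K] {σ : K →+* K} (hσ : ∀ x, σ (σ x) = x) (h2 : (2 : K) ≠ 0)
  (hδ : ∃ δ : K, δ ≠ 0 ∧ σ δ = -δ)
include hσ h2 hδ

theorem lang_map : Lang (GeneralLinearGroup.map σ : GL I K →* GL I K) := fun a ha => by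
  have h : St σ (σ.mapMatrix : Matrix I I K →+* _).toAddMonoidHom :=
    ⟨map_one σ.mapMatrix, fun x y _ => map_mul σ.mapMatrix x y,
      fun c x => by ext i j; exact map_mul σ _ _, fun x => by ext i j; exact hσ _, h2, hδ⟩
  have e : GeneralLinearGroup.map σ a = a ^ (orderOf a - 1) := by
    rw [← mul_right_inj a, ha, ← pow_succ', Nat.sub_add_cancel (orderOf_pos a), pow_orderOf_eq_one]
  obtain ⟨b, h1, h3⟩ := (h.main (a := a) (by
    have := pow_mem (Algebra.self_mem_adjoin_singleton K a.val) (orderOf a - 1)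
    rwa [← Units.val_pow_eq_pow_val, ← e] at this)).1 (congrArg Units.val ha)
  exact ⟨b, Units.ext h3, h1⟩

theorem lang_tw : Lang (tw σ : GL I K →* GL I K) := fun a ha => by
  let st : Matrix I I K →+ Matrix I I K :=
    (transposeAddEquiv I I K).toAddMonoidHom.comp (σ.mapMatrix : Matrix I I K →+* _).toAddMonoidHom
  have h : St σ st :=
    ⟨(congrArg transpose (map_one σ.mapMatrix)).trans transpose_one, fun x y e => by
      rw [e]; exact (congrArg transpose (map_mul σ.mapMatrix y x)).trans (transpose_mul _ _),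
      fun c x => by ext i j; exact map_mul σ _ _, fun x => by ext i j; exact hσ _, h2, hδ⟩
  have e : st a = a := (tw_inv σ a).symm.trans (congrArg Units.val (eq_inv_of_mul_eq_one_left ha).symm)
  obtain ⟨b, h1, h3⟩ := (h.main (a := a) (e.symm ▸ Algebra.self_mem_adjoin_singleton K a.val)).2 e
  exact ⟨b, (eq_mul_inv_iff_mul_eq.1 (Units.ext h3.symm)), h1⟩

end Cfsg.Lib.Bmo
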