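import Cfsg.Agent.Bmo.Mon
import Cfsg.Agent.Class.HermSimple
import Cfsg.Agent.Perm.UnitMat

/-! The `2`-fusion systems of linear and unitary groups. -/

set_option autoImplicit false

namespace Cfsg.Lib.Bmo

open Matrix Subgroup Equiv

universe u v

variable {C : Type*} [CommGroup C] {n : ℕ} [NeZero n] {W : Subgroup (Perm (Fin n))}
  {F K : Type*} [Field F] [Field K] [Fintype K] {σ : K →+* K} {q : ℕ} {χ : C →* K} {r : ℤ}

theorem side_SL [Algebra F K] (h : Fq σ q) (hF : ∀ x, σ x = x ↔ x ∈ Set.range (algebraMap F K))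
    (hW : IsPGroup 2 W) (hr : ∀ c : C, c ^ q = c ^ r) :
    Side (pw r) (GeneralLinearGroup.map σ) (mon χ : Mn C W →* _)
      (SpecialLinearGroup.mapGL K : SpecialLinearGroup (Fin n) F →* _) GeneralLinearGroup.det where
  inv g := GeneralLinearGroup.ext fun _ _ => h.inv _
  comm := map_mon_pw fun c => by rw [h.pow, ← map_pow, hr]
  lang := lang_map h.inv h.two h.ex
  inj := SpecialLinearGroup.mapGL_injective
  mem g := by
    refine ⟨?_, fun ⟨h1, h2⟩ => ?_⟩
    · rintro ⟨A, rfl⟩
      exact ⟨GeneralLinearGroup.ext fun i j => (hF _).2 ⟨_, rfl⟩, SpecialLinearGroup.det_mapGL A⟩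
    · choose A hA using fun i j => (hF (g.val i j)).1 ((GeneralLinearGroup.ext_iff _ _).1 h1 i j)
      have e : (algebraMap F K).mapMatrix (of A) = g.val := by ext i j; exact hA i j
      refine ⟨⟨of A, (algebraMap F K).injective ?_⟩, Units.ext e⟩
      rw [RingHom.map_det, e, map_one]
      exact congrArg Units.val h2
  odd := odd_aux hW χ (map_dg σ) (GeneralLinearGroup.map_det σ)
  cen z hz := by
    rw [show SpecialLinearGroup.mapGL K z = GeneralLinearGroup.map (algebraMap F K) z.toGL from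
      Units.ext rfl]
    exact GeneralLinearGroup.map_center_le _ ((SpecialLinearGroup.toGL_mem_center_iff z).2 hz)

theorem side_SU (h : Fq σ q) (hn : 2 ≤ n) (hW : IsPGroup 2 W) (hr : ∀ c : C, c⁻¹ ^ q = c ^ r) :
    Side (pw r) (tw σ) (mon χ : Mn C W →* _)
      (SpecialLinearGroup.toGL.comp (SU n K q).subtype) GeneralLinearGroup.det where
  inv g := GeneralLinearGroup.ext fun _ _ => h.inv _
  comm := tw_mon_pw fun c => by rw [h.pow, ← map_pow, hr]
  lang := lang_tw h.inv h.two h.ex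
  inj := SpecialLinearGroup.toGL_injective.comp (subtype_injective _)
  mem g := by
    have k : ∀ A : SpecialLinearGroup (Fin n) K, A ∈ SU n K q ↔ tw σ A.toGL = A.toGL := fun A => by
      rw [Perm.mem_SU_iff_mul σ h.pow, ← inv_mul_eq_one (a := tw σ _), Units.ext_iff, ← transpose_inj,
        transpose_mul, transpose_transpose, transpose_one]
      rfl
    refine ⟨?_, fun ⟨h1, h2⟩ => ⟨⟨⟨g.val, congrArg Units.val h2⟩, (k _).2 ?_⟩, Units.ext rfl⟩⟩
    · rintro ⟨A, rfl⟩
      exact ⟨(k _).1 A.2, A.1.coeToGL_det⟩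
    · rwa [show SpecialLinearGroup.toGL ⟨g.val, congrArg Units.val h2⟩ = g from Units.ext rfl]
  odd := odd_aux hW χ (ρ := (Units.map σ.toMonoidHom)⁻¹) (tw_dg σ) (det_tw σ)
  cen z hz := by
    obtain ⟨a, ha⟩ := (Class.Form.mem_center_SU_iff h.card n hn z).1 hz
    exact GeneralLinearGroup.mem_center_iff_val_mem_range_scalar.2
      ⟨a, (smul_one_eq_diagonal a).symm.trans ha.symm⟩

theorem exists_ext (F : Type*) [Field F] [Fintype F] (hq : Odd (Fintype.card F)) :
    ∃ (K : Type) (_ : Field K) (_ : Fintype K) (_ : Algebra F K) (σ : K →+* K),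
      Fq σ (Fintype.card F) ∧ ∀ x, σ x = x ↔ x ∈ Set.range (algebraMap F K) := by
  obtain ⟨p, _, _⟩ := FiniteField.card' F
  have : Fact p.Prime := ⟨by tauto⟩
  let K := FiniteField.Extension F p 2
  have := Fintype.ofFinite K
  refine ⟨K, inferInstance, this, inferInstance, (FiniteField.Extension.frob F p 2).toRingEquiv.toRingHom,
    ⟨by simpa using FiniteField.natCard_extension F p 2, hq,
    fun x => Nat.card_eq_fintype_card (α := F) ▸ FiniteField.Extension.frob_apply F p 2⟩, fun x => ⟨fun h => ?_, ?_⟩⟩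
  · refine (IsGalois.mem_range_algebraMap_iff_fixed x).2 fun g => ?_
    obtain ⟨i, -, rfl⟩ := FiniteField.Extension.exists_frob_pow_eq F p 2 g
    rw [AlgEquiv.coe_pow]
    exact Function.iterate_fixed h i
  · rintro ⟨x, rfl⟩
    exact AlgEquiv.commutes _ x

theorem dvd_of_val {x y : ℕ} (hx : x ≠ 0) (hy : y ≠ 0) (e : padicValNat 2 x = padicValNat 2 y) :
    (2 : ℤ) ^ (padicValNat 2 y + 1) ∣ x - y ∧ (2 : ℤ) ^ (padicValNat 2 y + 1) ∣ x + y := by
  have a := pow_succ_padicValNat_not_dvd (p := 2) hx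
  have b := pow_succ_padicValNat_not_dvd (p := 2) hy
  obtain ⟨s, hs⟩ := pow_padicValNat_dvd (p := 2) (n := x)
  obtain ⟨t, ht⟩ := pow_padicValNat_dvd (p := 2) (n := y)
  rw [e] at a hs
  generalize padicValNat 2 y = k at *
  subst hs ht
  rw [pow_succ, Nat.mul_dvd_mul_iff_left (by positivity)] at a b
  push_cast
  rw [← mul_sub, ← mul_add, pow_succ]
  exact ⟨mul_dvd_mul_left _ (by omega), mul_dvd_mul_left _ (by omega)⟩

theorem val_one {q : ℕ} (hq : Odd q) (h1 : 1 < q) :
    padicValNat 2 (q + 1) = 1 ∨ padicValNat 2 (q - 1) = 1 := by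
  have a := fun k => padicValNat_dvd_iff_le (p := 2) (a := q + 1) (n := k) (by omega)
  have b := fun k => padicValNat_dvd_iff_le (p := 2) (a := q - 1) (n := k) (by omega)
  have := a 1; have := a 2; have := b 1; have := b 2
  obtain ⟨k, rfl⟩ := hq
  omega

theorem zpow_eq {c : C} {N : ℕ} (h : c ^ N = 1) {a b : ℤ} (e : (N : ℤ) ∣ a - b) : c ^ a = c ^ b :=
  zpow_eq_zpow_iff_modEq.2 (Int.modEq_iff_dvd.2
    ((Int.natCast_dvd_natCast.2 (orderOf_dvd_of_pow_eq_one h)).trans e)).symm

theorem pslPsl : PslPsl.{u, v} := fun n hn F _ _ F' _ _ q q' hF hF' hq hq' e1 e2 => by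
  subst hF hF'
  have : NeZero n := ⟨by omega⟩
  obtain ⟨K, _, _, _, σ, h, k⟩ := exists_ext F hq
  obtain ⟨K', _, _, _, σ', h', k'⟩ := exists_ext F' hq'
  obtain ⟨C, _, W, χ, χ', hW, hC, a, b, c⟩ := glue h h' (by rw [e1, e2]) n
  refine ((side_SL h k hW fun c => (zpow_natCast c _).symm).main (side_SL h' k' hW fun c => ?_)
    a b c).symm
  rw [← zpow_natCast]
  refine zpow_eq (hC c) ?_
  have := h.one_lt
  have := h'.one_lt
  rcases val_one hq h.one_lt with e | e
  · have := (dvd_of_val (by omega) (by omega) e1).1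
    rw [e, add_comm]
    convert this using 1 <;> push_cast [Nat.cast_sub h.one_lt.le, Nat.cast_sub h'.one_lt.le] <;> ring
  · have := (dvd_of_val (by omega) (by omega) e2).1
    rw [e]
    convert this using 1 <;> push_cast <;> ring

theorem psuPsl : PsuPsl.{u, v} := fun n hn F _ _ K' _ _ q q' hF hF' hq hq' e1 e2 => by
  subst hF
  have : NeZero n := ⟨by omega⟩
  obtain ⟨K, _, _, _, σ, h, k⟩ := exists_ext F hq
  have h' : Fq (Class.frobqEquiv hF').toRingHom q' := ⟨hF', hq', fun _ => rfl⟩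
  obtain ⟨C, _, W, χ, χ', hW, hC, a, b, c⟩ := glue h h' (by rw [e1, e2, add_comm]) n
  refine ((side_SL h k hW fun c => (zpow_natCast c _).symm).main (side_SU h' hn.1 hW fun c => ?_)
    a b c).symm
  rw [← zpow_natCast, _root_.inv_zpow']
  refine zpow_eq (hC c) ?_
  have := h.one_lt
  have := h'.one_lt
  rcases val_one hq h.one_lt with e | e
  · have := (dvd_of_val (by omega) (by omega) e1).2
    rw [e, add_comm, Nat.cast_pow, ← dvd_neg]
    exact this.trans (dvd_of_eq (by omega))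
  · have := (dvd_of_val (by omega) (by omega) e2).2
    rw [e, Nat.cast_pow, ← dvd_neg]
    exact this.trans (dvd_of_eq (by omega))

end Cfsg.Lib.Bmo
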