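import Mathlib.RepresentationTheory.Maschke
import Mathlib.RepresentationTheory.Intertwining
import Mathlib.LinearAlgebra.Eigenspace.Zero
import Mathlib.LinearAlgebra.Matrix.Vec
import Mathlib.LinearAlgebra.Matrix.Charpoly.LinearMap
import Mathlib.LinearAlgebra.Charpoly.ToMatrix
import Mathlib.LinearAlgebra.Matrix.GeneralLinearGroup.Defs
import Mathlib.RingTheory.Localization.FractionRing
import Mathlib.FieldTheory.Finiteness

/-! Equivalence of representations does not depend on the coprime characteristic. -/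

set_option autoImplicit false

namespace Cfsg.Lib.Bmo

open Matrix Polynomial Module
open scoped Kronecker

universe u

section semi

variable {A : Type*} [Ring A]

/-- The number of homomorphisms. -/
noncomputable abbrev hm (A : Type*) [Ring A] (V W : Type u) [AddCommGroup V] [Module A V]
    [AddCommGroup W] [Module A W] : ℕ := Nat.card (V →ₗ[A] W)

theorem hm_prod {V W N C D C' : Type u} [AddCommGroup V] [Module A V] [AddCommGroup W] [Module A W]
    [AddCommGroup N] [Module A N] [AddCommGroup C] [Module A C] [AddCommGroup D] [Module A D]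
    [AddCommGroup C'] [Module A C'] (e : V ≃ₗ[A] N × C) (e' : W ≃ₗ[A] D × C') :
    hm A V W = hm A N D * hm A N C' * (hm A C D * hm A C C') := by
  unfold hm
  rw [Nat.card_congr (e.arrowCongrAddEquiv e').toEquiv,
    ← Nat.card_congr (LinearMap.coprodEquiv ℕ).toEquiv, Nat.card_prod,
    ← Nat.card_congr (LinearMap.prodEquiv ℕ).toEquiv,
    ← Nat.card_congr (LinearMap.prodEquiv ℕ).toEquiv, Nat.card_prod, Nat.card_prod]

theorem hm_pos (V W : Type u) [AddCommGroup V] [Module A V] [AddCommGroup W] [Module A W]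
    [Finite V] [Finite W] : 0 < hm A V W :=
  have : Finite (V →ₗ[A] W) := .of_injective _ DFunLike.coe_injective
  Nat.card_pos

theorem equiv_of_hm [IsSemisimpleRing A] (n : ℕ) : ∀ (V W : Type u) [AddCommGroup V] [Module A V]
    [AddCommGroup W] [Module A W] [Finite V] [Finite W], Nat.card V + Nat.card W = n →
    hm A V V * hm A W W ≤ hm A V W * hm A W V → Nonempty (V ≃ₗ[A] W) := by
  induction n using Nat.strong_induction_on with
  | _ n ih =>
  have key : ∀ (V W : Type u) [AddCommGroup V] [Module A V] [AddCommGroup W] [Module A W]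
      [Finite V] [Finite W], Nat.card V + Nat.card W = n →
      hm A V V * hm A W W ≤ hm A V W * hm A W V → ∀ f : V →ₗ[A] W, f ≠ 0 →
      Nonempty (V ≃ₗ[A] W) := by
    intro V W _ _ _ _ _ _ hn h f hf
    obtain ⟨C, hC⟩ := exists_isCompl (LinearMap.ker f)
    obtain ⟨D, hD⟩ := exists_isCompl (LinearMap.range f)
    let e := (Submodule.prodEquivOfIsCompl _ _ hC).symm
    let e' : W ≃ₗ[A] D × C := (Submodule.prodEquivOfIsCompl _ _ hD.symm).symm.trans
      ((LinearEquiv.refl A D).prodCongr
        (f.quotKerEquivRange.symm.trans (Submodule.quotientEquivOfIsCompl _ _ hC)))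
    rw [hm_prod e e, hm_prod e' e', hm_prod e e', hm_prod e' e] at h
    have h1 : Nat.card (LinearMap.ker f) < Nat.card V :=
      (DFunLike.ne_iff.1 hf).elim fun x hx => Finite.card_subtype_lt (x := x) hx
    have h2 : Nat.card D ≤ Nat.card W := Finite.card_subtype_le _
    obtain ⟨g⟩ := ih _ (by omega) (LinearMap.ker f) D rfl (Nat.le_of_mul_le_mul_right
      (c := hm A (LinearMap.ker f) C * hm A C (LinearMap.ker f) * hm A C C * hm A D C * hm A C D *
        hm A C C) (by convert h using 1 <;> ring) (by simp only [CanonicallyOrderedAdd.mul_pos, hm_pos, and_true]))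
    exact ⟨e.trans ((g.prodCongr (LinearEquiv.refl A C)).trans e'.symm)⟩
  intro V W _ _ _ _ _ _ hn h
  by_cases h1 : ∃ f : V →ₗ[A] W, f ≠ 0
  · exact key V W hn h _ h1.choose_spec
  by_cases h2 : ∃ f : W →ₗ[A] V, f ≠ 0
  · exact (key W V (by omega) (by rwa [mul_comm, mul_comm (hm A W V)]) _ h2.choose_spec).map .symm
  push Not at h1 h2
  have e1 : hm A V W = 1 := Nat.card_eq_one_iff_exists.2 ⟨0, h1⟩
  have e2 : hm A W V = 1 := Nat.card_eq_one_iff_exists.2 ⟨0, h2⟩
  have a := hm_pos (A := A) V V
  have b := hm_pos (A := A) W W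
  rw [e1, e2] at h
  have sub : ∀ (U : Type u) [AddCommGroup U] [Module A U], hm A U U = 1 → Subsingleton U :=
    fun U _ _ e => ⟨fun x y => by
      have := (Nat.card_eq_one_iff_unique.1 e).1.elim (LinearMap.id : U →ₗ[A] U) 0
      exact (LinearMap.congr_fun this x).trans (LinearMap.congr_fun this y).symm⟩
  have := sub V (by nlinarith)
  have := sub W (by nlinarith)
  exact ⟨LinearEquiv.ofSubsingleton V W⟩

end semi

section nul

variable {I R K : Type*} [Fintype I] [DecidableEq I] [CommRing R] [Field K]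

theorem nul_eq {T : Matrix I I K} {c : K} (hc : c ≠ 0) (h : T * T = c • T) :
    finrank K (LinearMap.ker (toLin' T)) = T.charpoly.natTrailingDegree := by
  rw [← charpoly_toLin', ← LinearMap.finrank_maxGenEigenspace_zero_eq]
  refine congrArg (fun U : Submodule K (I → K) => finrank K U) (Submodule.ext fun v => ?_)
  simp only [End.mem_maxGenEigenspace, zero_smul, sub_zero, LinearMap.mem_ker]
  refine ⟨fun e => ⟨1, by simpa using e⟩, fun ⟨k, e⟩ => ?_⟩
  have : ∀ k, toLin' T ((toLin' T ^ k) v) = c ^ k • toLin' T v := fun k => by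
    induction k with
    | zero => simp
    | succ k ih =>
      rw [pow_succ', End.mul_apply, ← LinearMap.comp_apply, ← toLin'_mul, h, map_smul,
        LinearMap.smul_apply, ih, smul_smul, pow_succ']
  have e1 := this k
  rw [e, map_zero, eq_comm, smul_eq_zero] at e1
  exact e1.resolve_left (pow_ne_zero k hc)

theorem nul_add {T : Matrix I I K} {c : K} (hc : c ≠ 0) (h : T * T = c • T) :
    T.charpoly.natTrailingDegree + (c • 1 - T).charpoly.natTrailingDegree = Fintype.card I := by
  rw [← nul_eq hc h, ← nul_eq hc (by simp [sub_mul, mul_sub, h, smul_sub, smul_smul]),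
    ← finrank_fintype_fun_eq_card K, ← (toLin' T).finrank_range_add_finrank_ker, add_comm]
  refine congrArg (fun U : Submodule K (I → K) => finrank K U + _) (Submodule.ext fun v => ?_)
  simp only [LinearMap.mem_ker, toLin'_apply, LinearMap.mem_range, sub_mulVec, smul_mulVec,
    one_mulVec, sub_eq_zero]
  refine ⟨fun e => ⟨c⁻¹ • v, by rw [mulVec_smul, ← e, inv_smul_smul₀ hc]⟩, ?_⟩
  rintro ⟨w, rfl⟩
  rw [mulVec_mulVec, h, smul_mulVec]

theorem map_sq (g : R →+* K) {T : Matrix I I R} {c : R} (h : T * T = c • T) :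
    T.map g * T.map g = g c • T.map g := by
  rw [← Matrix.map_mul, h]; ext; simp

theorem map_sub' (g : R →+* K) (T : Matrix I I R) (c : R) :
    g c • 1 - T.map g = (c • 1 - T).map g := by
  ext i j; by_cases e : i = j <;> simp [e]

theorem ntd_le (g : R →+* K) (T : Matrix I I R) :
    T.charpoly.natTrailingDegree ≤ (T.map g).charpoly.natTrailingDegree := by
  refine natTrailingDegree_le_of_ne_zero fun e => ?_
  have := trailingCoeff_eq_zero.not.2 (T.map g).charpoly_monic.ne_zero
  rw [trailingCoeff] at this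
  nth_rewrite 1 [charpoly_map] at this
  exact this (by rw [coeff_map, e, map_zero])

theorem ntd_ge [Nontrivial R] {g : R →+* K} (hg : Function.Injective g) (T : Matrix I I R) :
    (T.map g).charpoly.natTrailingDegree ≤ T.charpoly.natTrailingDegree := by
  refine natTrailingDegree_le_of_ne_zero ?_
  rw [charpoly_map, coeff_map, map_ne_zero_iff g hg]
  exact trailingCoeff_eq_zero.not.2 T.charpoly_monic.ne_zero

theorem ntd_map [IsDomain R] (f : R →+* K) {T : Matrix I I R} {c : R} (hc : f c ≠ 0)
    (h : T * T = c • T) :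
    (f c • 1 - T.map f).charpoly.natTrailingDegree = (c • 1 - T).charpoly.natTrailingDegree := by
  have hg := IsFractionRing.injective R (FractionRing R)
  have h1 := nul_add hc (map_sq f h)
  have h2 := nul_add ((map_ne_zero_iff _ hg).2 fun e : c = 0 => hc (by rw [e, map_zero]))
    (map_sq _ h)
  rw [map_sub'] at h1 h2 ⊢
  have := ntd_le f T
  have := ntd_le f (c • 1 - T)
  have := ntd_ge hg T
  have := ntd_ge hg (c • 1 - T)
  omega

variable {P : Type*} [Group P] [Fintype P]

/-- The number of fixed vectors. -/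
theorem card_fix [IsDomain R] [Finite K] (f : R →+* K) (hc : (Fintype.card P : K) ≠ 0)
    (r : P → Matrix I I R) (hr : ∀ x y, r (x * y) = r x * r y) :
    Nat.card {v : I → K // ∀ x, (r x).map f *ᵥ v = v} =
      Nat.card K ^ ((Fintype.card P : R) • 1 - ∑ x, r x).charpoly.natTrailingDegree := by
  have h1 : ∀ y, r y * ∑ x, r x = ∑ x, r x := fun y => by
    rw [Finset.mul_sum]
    exact Fintype.sum_equiv (Equiv.mulLeft y) _ _ fun x => (hr y x).symm
  have h2 : (∑ x, r x) * ∑ x, r x = (Fintype.card P : R) • ∑ x, r x := by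
    nth_rewrite 1 [Finset.sum_mul]
    simp only [h1, Finset.sum_const, Finset.card_univ, Nat.cast_smul_eq_nsmul]
  have hc' : f (Fintype.card P) ≠ 0 := by rwa [map_natCast]
  have h3 := map_sq f h2
  rw [← ntd_map f hc' h2, ← nul_eq hc' (by simp [sub_mul, mul_sub, h3, smul_sub, smul_smul]),
    ← natCard_eq_pow_finrank]
  refine Nat.card_congr (Equiv.subtypeEquivRight fun v => ?_)
  simp only [LinearMap.mem_ker, toLin'_apply, sub_mulVec, smul_mulVec, one_mulVec, sub_eq_zero]
  refine ⟨fun h => ?_, fun h y => smul_right_injective _ hc' ?_⟩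
  · change _ = f.mapMatrix _ *ᵥ v
    rw [map_sum, sum_mulVec]
    simp only [RingHom.mapMatrix_apply, h, Finset.sum_const, Finset.card_univ, map_natCast,
      Nat.cast_smul_eq_nsmul]
  · simp only
    rw [← mulVec_smul, h, mulVec_mulVec, ← Matrix.map_mul, h1]

/-- The intertwining matrices. -/
abbrev Itw (f : R →+* K) (α β : P →* GL I R) : Type _ :=
  {A : Matrix I I K // ∀ x, (β x : Matrix I I R).map f * A = A * (α x : Matrix I I R).map f}

/-- The dimension of the space of intertwining matrices. -/
noncomputable def dm (α β : P →* GL I R) : ℕ := ((Fintype.card P : R) • 1 -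
  ∑ x, (α x⁻¹ : Matrix I I R)ᵀ ⊗ₖ (β x : Matrix I I R)).charpoly.natTrailingDegree

theorem card_itw [IsDomain R] [Finite K] (f : R →+* K) (hc : (Fintype.card P : K) ≠ 0)
    (α β : P →* GL I R) : Nat.card (Itw f α β) = Nat.card K ^ dm α β := by
  refine Eq.trans ?_ (card_fix f hc
    (fun x => (α x⁻¹ : Matrix I I R)ᵀ ⊗ₖ (β x : Matrix I I R)) fun x y => by
      simp only [_root_.mul_inv_rev, map_mul, Units.val_mul, transpose_mul, mul_kronecker_mul])
  refine Nat.card_congr (Equiv.subtypeEquiv (Equiv.ofBijective vec vec_bijective) fun A =>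
    forall_congr' fun x => ?_)
  have e : ((α x⁻¹ : Matrix I I R)ᵀ ⊗ₖ (β x : Matrix I I R)).map f =
      ((α x⁻¹ : Matrix I I R).map f)ᵀ ⊗ₖ (β x : Matrix I I R).map f := by
    ext; simp
  have e1 : (α x⁻¹ : Matrix I I R).map f * (α x : Matrix I I R).map f = 1 := by
    rw [← Matrix.map_mul, ← Units.val_mul, ← map_mul]; simp
  rw [e, Equiv.ofBijective_apply, kronecker_mulVec_vec, vec_inj, transpose_transpose]
  refine ⟨fun h => by rw [h, Matrix.mul_assoc, mul_eq_one_comm.1 e1, Matrix.mul_one], fun h => ?_⟩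
  conv_rhs => rw [← h, Matrix.mul_assoc, e1, Matrix.mul_one]

/-- The representation on column vectors. -/
def rep (f : R →+* K) (α : P →* GL I R) : Representation K P (I → K) :=
  (toLinAlgEquiv' (R := K) (n := I)).toMulEquiv.toMonoidHom.comp
    (f.mapMatrix.toMonoidHom.comp ((Units.coeHom _).comp α))

theorem rep_apply (f : R →+* K) (α : P →* GL I R) (x : P) :
    rep f α x = toLin' ((α x : Matrix I I R).map f) := rfl

/-- Intertwining matrices and intertwining maps. -/
noncomputable def itwEquiv (f : R →+* K) (α β : P →* GL I R) :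
    Itw f α β ≃ (rep f α).IntertwiningMap (rep f β) where
  toFun A := ⟨toLin' A.1, fun x => by rw [rep_apply, rep_apply, ← toLin'_mul, ← toLin'_mul, A.2]⟩
  invFun g := ⟨LinearMap.toMatrix' g.toLinearMap, fun x => toLin'.injective (by
    rw [toLin'_mul, toLin'_mul, toLin'_toMatrix']; exact (g.2 x).symm)⟩
  left_inv A := Subtype.ext (LinearMap.toMatrix'_toLin' _)
  right_inv g := by ext1; exact toLin'_toMatrix' _

/-- Equivalence over `K`. -/
def Cj (f : R →+* K) (α β : P →* GL I R) : Prop :=
  ∃ g : GL I K, ∀ x, g * GeneralLinearGroup.map f (α x) * g⁻¹ = GeneralLinearGroup.map f (β x)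

theorem Cj.card {f : R →+* K} {α β α' β' : P →* GL I R} (h : Cj f α α') (h' : Cj f β β') [Finite K] :
    Nat.card (Itw f α' β') ≤ Nat.card (Itw f α β) := by
  obtain ⟨g, hg⟩ := h
  obtain ⟨k, hk⟩ := h'
  refine Nat.card_le_card_of_injective (fun A => ⟨(k⁻¹ : GL I K) * A.1 * g, fun x => ?_⟩) ?_
  · have e1 := congrArg Units.val (mul_inv_eq_iff_eq_mul.1 (hg x))
    have e2 := congrArg Units.val (eq_inv_mul_iff_mul_eq.2 ((mul_assoc _ _ _).symm.trans (hk x)))
    simp only [Units.val_mul] at e1 e2
    change _ * Matrix.map _ _ = Matrix.map _ _ * _ at e1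
    change Matrix.map _ _ * _ = _ * Matrix.map _ _ at e2
    rw [← Matrix.mul_assoc, ← Matrix.mul_assoc, e2, Matrix.mul_assoc _ _ A.1, A.2, Matrix.mul_assoc,
      Matrix.mul_assoc, ← e1, Matrix.mul_assoc, Matrix.mul_assoc]
  · intro A B e
    exact Subtype.ext ((Units.mul_right_inj _).1 ((Units.mul_left_inj _).1 (congrArg Subtype.val e)))

theorem Cj.refl (f : R →+* K) (α : P →* GL I R) : Cj f α α := ⟨1, by simp⟩

theorem cj_of_card [Finite K] {f : R →+* K} (hc : (Fintype.card P : K) ≠ 0) {α β : P →* GL I R}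
    (h : Nat.card (Itw f α α) * Nat.card (Itw f β β) ≤
      Nat.card (Itw f α β) * Nat.card (Itw f β α)) : Cj f α β := by
  have : NeZero (Nat.card P : K) := ⟨by rwa [Nat.card_eq_fintype_card]⟩
  have e : ∀ α β : P →* GL I R, Nat.card (Itw f α β) =
      hm (MonoidAlgebra K P) (rep f α).asModule (rep f β).asModule := fun α β =>
    Nat.card_congr ((itwEquiv f α β).trans
      (Representation.IntertwiningMap.equivLinearMapAsModule _ _).toEquiv)
  simp only [e] at h
  have : ∀ α : P →* GL I R, Finite (rep f α).asModule := fun _ => inferInstanceAs (Finite (I → K))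
  obtain ⟨φ⟩ := equiv_of_hm _ _ _ rfl h
  let A := (itwEquiv f α β).symm
    ((Representation.IntertwiningMap.equivLinearMapAsModule _ _).symm φ.toLinearMap)
  have hA : IsUnit A.1 := by
    rw [← isUnit_toLin'_iff, End.isUnit_iff]
    change Function.Bijective (toLin' (LinearMap.toMatrix' _))
    rw [toLin'_toMatrix']
    exact φ.bijective
  refine ⟨hA.unit, fun x => mul_inv_eq_iff_eq_mul.2 (Units.ext (A.2 x).symm)⟩

theorem Cj.symm {f : R →+* K} {α β : P →* GL I R} (h : Cj f α β) : Cj f β α :=
  h.elim fun g hg => ⟨g⁻¹, fun x => by rw [← hg]; group⟩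

/-- Equivalence does not depend on the field. -/
theorem Cj.transfer [IsDomain R] [Finite K] {K' : Type*} [Field K'] [Finite K']
    {f : R →+* K} (f' : R →+* K') (hc : (Fintype.card P : K) ≠ 0) (hc' : (Fintype.card P : K') ≠ 0)
    {α β : P →* GL I R} (h : Cj f α β) : Cj f' α β := by
  have h1 := (Cj.refl f α).card h.symm
  have h2 := (Cj.refl f β).card h
  rw [card_itw f hc, card_itw f hc, pow_le_pow_iff_right₀ Finite.one_lt_card] at h1 h2
  refine cj_of_card hc' ?_
  simp only [card_itw f' hc']
  exact Nat.mul_le_mul (Nat.pow_le_pow_right Nat.card_pos h1) (Nat.pow_le_pow_right Nat.card_pos h2)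

end nul

end Cfsg.Lib.Bmo
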