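import Cfsg.Agent.Bmo.Sub
import Cfsg.Agent.Bmo.Semi

/-! Monomial groups as Sylow `2`-subgroups of general linear groups. -/

set_option autoImplicit false

namespace Cfsg.Lib.Bmo

open Matrix Subgroup Cfsg.Lib.Trans Equiv

variable {I : Type*} [Fintype I] [DecidableEq I] {C : Type*} [CommGroup C] {W : Subgroup (Perm I)}
  {R K K' : Type*} [CommRing R] [Field K] [Field K']

/-- The abstract monomial group. -/
abbrev Mn (C : Type*) [CommGroup C] (W : Subgroup (Perm I)) := (I → C) ⋊[mulAutArrow] W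

/-- Monomial matrices. -/
def monM (χ : C →* R) : Mn C W →* Matrix I I R where
  toFun m := of fun i j => if i = m.right.1 j then χ (m.left i) else 0
  map_one' := by ext i j; simp [one_apply]
  map_mul' a b := by
    ext i k
    simp only [mul_apply, of_apply, mul_ite, mul_zero, Finset.sum_ite_eq', Finset.mem_univ, if_true,
      ite_mul, zero_mul, SemidirectProduct.mul_right, SemidirectProduct.mul_left, Subgroup.coe_mul,
      Perm.mul_apply, Pi.mul_apply, map_mul]
    split_ifs with h
    · rw [h]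
      exact congrArg (fun j => _ * χ (b.left j)) (a.right.1.symm_apply_apply _)
    · rfl

/-- Monomial matrices as invertible matrices. -/
def mon (χ : C →* R) : Mn C W →* GL I R := (monM χ).toHomUnits

theorem mon_apply (χ : C →* R) (m : Mn C W) (i j : I) :
    (mon χ m).val i j = if i = m.right.1 j then χ (m.left i) else 0 := rfl

/-- Raising the entries to a power. -/
def pw (r : ℤ) : Mn C W →* Mn C W :=
  SemidirectProduct.map (zpowGroupHom r) (MonoidHom.id _) fun _ => rfl

theorem map_mon {S : Type*} [CommRing S] (f : R →+* S) (χ : C →* R) (m : Mn C W) :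
    GeneralLinearGroup.map f (mon χ m) = mon (f.toMonoidHom.comp χ) m :=
  GeneralLinearGroup.ext fun i j => by
    rw [GeneralLinearGroup.map_apply, mon_apply, mon_apply, apply_ite f, map_zero]; rfl

theorem map_mon_pw {σ : K →+* K} {χ : C →* K} {r : ℤ} (h : ∀ c, σ (χ c) = χ (c ^ r)) (m : Mn C W) :
    GeneralLinearGroup.map σ (mon χ m) = mon χ (pw r m) :=
  GeneralLinearGroup.ext fun i j => by
    rw [GeneralLinearGroup.map_apply, mon_apply, mon_apply, apply_ite σ, map_zero, h]; rfl

theorem tw_mon_pw {σ : K →+* K} {χ : C →* K} {r : ℤ} (h : ∀ c, σ (χ c⁻¹) = χ (c ^ r)) (m : Mn C W) :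
    tw σ (mon χ m) = mon χ (pw r m) :=
  GeneralLinearGroup.ext fun i j => by
    rw [tw_val, ← map_inv, transpose_apply, map_apply, mon_apply, mon_apply, apply_ite σ, map_zero]
    by_cases e : i = m.right.1 j
    · rw [if_pos (show i = (pw r m).right.1 j from e), e,
        if_pos (show j = (m⁻¹).right.1 _ from (m.right.1.symm_apply_apply j).symm)]
      exact h _
    · rw [if_neg (show ¬ i = (pw r m).right.1 j from e), if_neg]
      rintro rfl
      exact e (m.right.1.apply_symm_apply i).symm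

theorem mon_mem_center [Nonempty I] {χ : C →* K} (hχ : Function.Injective χ) (m : Mn C W) :
    mon χ m ∈ center (GL I K) ↔ m.right = 1 ∧ ∀ i j, m.left i = m.left j := by
  rw [GeneralLinearGroup.mem_center_iff_val_mem_range_scalar]
  refine ⟨fun ⟨c, h⟩ => ?_, fun ⟨h1, h2⟩ => ⟨χ (m.left (Classical.arbitrary I)), ?_⟩⟩
  · have e : ∀ j, m.right.1 j = j := fun j => by
      have := congrFun (congrFun h (m.right.1 j)) j
      rw [mon_apply, if_pos rfl] at this
      by_contra hj
      exact ((Group.isUnit _).map χ).ne_zero (this.symm.trans (diagonal_apply_ne _ hj))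
    have e' : ∀ j, c = χ (m.left j) := fun j => by
      simpa [mon_apply, e] using congrFun (congrFun h j) j
    exact ⟨Subtype.ext (Equiv.ext e), fun i j => hχ (by rw [← e', ← e'])⟩
  · ext i j
    simp [mon_apply, h1, diagonal_apply, h2 i (Classical.arbitrary I)]

theorem mon_inj {χ : C →* K} (hχ : Function.Injective χ) :
    Function.Injective (mon χ : Mn C W →* GL I K) := (injective_iff_map_eq_one _).2 fun m h => by
  have e : ∀ j, m.right.1 j = j := fun j => by
    have := mon_apply χ m (m.right.1 j) j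
    rw [h, if_pos rfl] at this
    by_contra hj
    exact ((Group.isUnit _).map χ).ne_zero (this.symm.trans (one_apply_ne hj))
  ext j
  · have := mon_apply χ m j j
    rw [h, if_pos (e j).symm] at this
    exact hχ (this.symm.trans ((one_apply_eq j).trans (map_one χ).symm))
  · exact e j

/-- Invertible diagonal matrices. -/
def dg (d : I → Kˣ) : GL I K :=
  ⟨diagonal fun i => d i, diagonal fun i => ((d i)⁻¹ : Kˣ), by simp, by simp⟩

theorem map_dg (σ : K →+* K) (d : I → Kˣ) :
    GeneralLinearGroup.map σ (dg d) = dg fun i => Units.map σ.toMonoidHom (d i) :=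
  Units.ext (diagonal_map (map_zero σ))

theorem tw_dg (σ : K →+* K) (d : I → Kˣ) :
    tw σ (dg d) = dg fun i => (Units.map σ.toMonoidHom (d i))⁻¹ :=
  Units.ext ((congrArg transpose (diagonal_map (map_zero σ))).trans (diagonal_transpose _))

theorem det_tw (σ : K →+* K) (g : GL I K) : GeneralLinearGroup.det (tw σ g) =
    (Units.map σ.toMonoidHom (GeneralLinearGroup.det g))⁻¹ := by
  rw [← map_inv, ← map_inv]
  exact Units.ext ((det_transpose _).trans (σ.map_det _).symm)

theorem odd_aux [Nonempty I] [Finite K] (hW : IsPGroup 2 W) (χ : C →* K) {θ : GL I K →* GL I K}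
    {ρ : Kˣ →* Kˣ} (h1 : ∀ d, θ (dg d) = dg fun i => ρ (d i))
    (h2 : ∀ g, GeneralLinearGroup.det (θ g) = ρ (GeneralLinearGroup.det g)) (h : GL I K)
    (e : θ h = h) (ho : Odd (orderOf h)) : ∃ c, θ c = c ∧ (∀ m : Mn C W, Commute c (mon χ m)) ∧
      GeneralLinearGroup.det (h * c) = 1 := by
  classical
  let O := MulAction.orbit W (Classical.arbitrary I)
  obtain ⟨k, hk⟩ : ∃ k, Nat.card O = 2 ^ k := hW.card_orbit _
  obtain ⟨r, hr⟩ := exists_pow_eq_self_of_coprime (x := GeneralLinearGroup.det h) (n := 2 ^ k)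
    (Nat.Coprime.pow_left k (Nat.coprime_two_left.2 (ho.of_dvd_nat (orderOf_map_dvd _ _))))
  refine ⟨dg fun i => if i ∈ O then (GeneralLinearGroup.det h ^ r)⁻¹ else 1, ?_, fun m => ?_, ?_⟩
  · rw [h1]
    congr 1
    ext1 i
    rw [apply_ite ρ, map_one, map_inv, map_pow, ← h2, e]
  · refine GeneralLinearGroup.ext fun i j => ?_
    simp only [Units.val_mul, dg, diagonal_mul, mul_diagonal, mon_apply]
    by_cases c : i = m.right.1 j
    · have : i ∈ O ↔ j ∈ O := c ▸ ⟨fun h => by
        simpa using MulAction.mem_orbit_of_mem_orbit m.right⁻¹ (show m.right • j ∈ O from h),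
        MulAction.mem_orbit_of_mem_orbit m.right⟩
      simp only [this, mul_comm]
    · simp [c]
  · have : (Finset.univ.filter (· ∈ O)).card = 2 ^ k := by
      rw [← hk, Nat.card_eq_fintype_card, Fintype.card_subtype]
    rw [map_mul, mul_eq_one_iff_inv_eq]
    nth_rewrite 1 [← hr]
    rw [pow_right_comm, ← inv_pow, ← this, ← Finset.prod_const, Finset.prod_filter]
    refine Units.ext ?_
    change _ = det (diagonal _)
    rw [Units.coe_prod, det_diagonal]

theorem eq_one_of_two_pow [IsDomain R] (f : R →+* K) (h2 : (2 : K) ≠ 0) {u : R} (hu : f u = 1)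
    {k : ℕ} (h : u ^ 2 ^ k = 1) : u = 1 := by
  induction k with
  | zero => simpa using h
  | succ k ih =>
    rw [pow_succ, pow_mul, sq, mul_self_eq_one_iff] at h
    refine ih (h.resolve_right fun e => h2 ?_)
    have := congrArg f e
    rw [map_pow, hu, one_pow, map_neg, map_one] at this
    linear_combination this

theorem isPGroup_mn (hC : IsPGroup 2 C) (hW : IsPGroup 2 W) [Finite C] : IsPGroup 2 (Mn C W) := by
  obtain ⟨a, ha⟩ := hC.exists_card_eq
  obtain ⟨b, hb⟩ := hW.exists_card_eq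
  exact .of_card (by rw [SemidirectProduct.card, Nat.card_fun, ha, hb, ← pow_mul, ← pow_add])

theorem det_mon [IsDomain R] (f : R →+* K) (h2 : (2 : K) ≠ 0) (hM : IsPGroup 2 (Mn C W))
    (χ : C →* R) (m : Mn C W) : GeneralLinearGroup.det (mon (f.toMonoidHom.comp χ) m) = 1 ↔
      GeneralLinearGroup.det (mon χ m) = 1 := by
  rw [← map_mon, GeneralLinearGroup.map_det]
  refine ⟨fun h => ?_, fun h => by rw [h, map_one]⟩
  obtain ⟨k, hk⟩ := hM m
  exact Units.ext (eq_one_of_two_pow f h2 (congrArg Units.val h) (k := k) (by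
    rw [← Units.val_pow_eq_pow_val, ← map_pow, ← map_pow, hk, map_one, map_one, Units.val_one]))

theorem fz_mon [IsDomain R] [Finite K] [Finite K'] [Finite C] (f : R →+* K) (f' : R →+* K')
    (h2 : (2 : K) ≠ 0) (h2' : (2 : K') ≠ 0) (hM : IsPGroup 2 (Mn C W)) (χ : C →* R)
    {X : Set (Mn C W × Mn C W)} (h : Fz (mon (f.toMonoidHom.comp χ)) X) :
    Fz (mon (f'.toMonoidHom.comp χ)) X := by
  have : Finite (Mn C W) := .of_equiv _ SemidirectProduct.equivProd.symm
  let P := closure X
  have := Fintype.ofFinite P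
  have hP : IsPGroup 2 (Mn C W × Mn C W) := by
    obtain ⟨a, ha⟩ := hM.exists_card_eq
    exact .of_card (by rw [Nat.card_prod, ha, ← pow_add])
  obtain ⟨k, hk⟩ := (hP.to_subgroup P).exists_card_eq
  rw [Nat.card_eq_fintype_card] at hk
  obtain ⟨g, hg⟩ := h.closure
  obtain ⟨g', hg'⟩ := Cj.transfer (f := f) f' (P := P) (by rw [hk]; simpa using fun h => absurd h h2)
    (by rw [hk]; simpa using fun h => absurd h h2')
    (α := (mon χ).comp ((MonoidHom.fst _ _).comp P.subtype))
    (β := (mon χ).comp ((MonoidHom.snd _ _).comp P.subtype))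
    ⟨g, fun x => by simpa [map_mon] using hg x.1 x.2⟩
  exact ⟨g', fun p hp => by simpa [map_mon] using hg' ⟨p, subset_closure hp⟩⟩

theorem val_gl {q : ℕ} [Fintype K] (hK : Fintype.card K = q ^ 2) (hq : Odd q) (n : ℕ) :
    (Nat.card (GL (Fin n) K)).factorization 2 =
      (padicValNat 2 (q + 1) + padicValNat 2 (q - 1)) * n + n.factorial.factorization 2 := by
  have h1 : 1 < q := by
    by_contra h
    have := Fintype.one_lt_card (α := K)
    interval_cases q <;> simp [hK] at this
  have h3 : ∀ i : Fin n, (q ^ 2) ^ n - (q ^ 2) ^ i.1 = q ^ (2 * i.1) * (q ^ (2 * (n - i)) - 1) :=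
    fun i => by
      rw [Nat.mul_sub_one, ← pow_add, ← mul_add, Nat.add_sub_cancel' i.2.le, pow_mul, pow_mul]
  have h4 : ∀ i : Fin n, q ^ (2 * (n - i)) - 1 ≠ 0 := fun i =>
    Nat.sub_ne_zero_of_lt (Nat.one_lt_pow (by omega) h1)
  have h5 : ¬ 2 ∣ q := hq.not_two_dvd_nat
  rw [card_GL_field, hK, ← Nat.descFactorial_self, Nat.descFactorial_eq_prod_range, Finset.prod_range,
    Nat.factorization_prod_apply fun i _ => h3 i ▸ mul_ne_zero (by positivity) (h4 i),
    Nat.factorization_prod_apply fun i _ => Nat.sub_ne_zero_of_lt i.2]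
  rw [show ∀ a, a * n = ∑ _i : Fin n, a from fun a => by simp [mul_comm], ← Finset.sum_add_distrib]
  refine Finset.sum_congr rfl fun i _ => ?_
  have := padicValNat.pow_two_sub_one h1 h5 (n := 2 * (n - i)) (by omega) (even_two_mul _)
  rw [padicValNat.mul two_ne_zero (by omega), padicValNat_self] at this
  rw [h3, Nat.factorization_def _ Nat.prime_two, Nat.factorization_def _ Nat.prime_two,
    padicValNat.mul (by positivity) (h4 i), 
    padicValNat.eq_zero_of_not_dvd hq.pow.not_two_dvd_nat]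
  omega

theorem se_mon {q n : ℕ} [Fintype K] (hK : Fintype.card K = q ^ 2) (hq : Odd q)
    (W : Sylow 2 (Perm (Fin n))) {χ : C →* K} (hχ : Function.Injective χ)
    (hC : Nat.card C = 2 ^ (padicValNat 2 (q + 1) + padicValNat 2 (q - 1))) :
    SE (mon χ : Mn C W.1 →* GL (Fin n) K) :=
  ⟨mon_inj hχ, isSylowIn_top (Sylow.ofCard (mon χ).range (by
    rw [← Nat.card_congr (MonoidHom.ofInjective (mon_inj hχ)).toEquiv, SemidirectProduct.card,
      Nat.card_fun, hC, W.card_eq_multiplicity, val_gl hK hq, Nat.card_perm]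
    simp [pow_add, pow_mul]))⟩

/-- A field of odd square order with its involution. -/
structure Fq [Fintype K] (σ : K →+* K) (q : ℕ) : Prop where
  card : Fintype.card K = q ^ 2
  odd : Odd q
  pow : ∀ x, σ x = x ^ q

variable [Fintype K] [Fintype K'] {σ : K →+* K} {σ' : K' →+* K'} {q q' : ℕ}

theorem Fq.one_lt (h : Fq σ q) : 1 < q := by
  by_contra h1
  have := Fintype.one_lt_card (α := K)
  interval_cases q <;> simp [h.card] at this

theorem Fq.inv (h : Fq σ q) (x : K) : σ (σ x) = x := by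
  rw [h.pow, h.pow, ← pow_mul, ← sq, ← h.card, FiniteField.pow_card]

theorem Fq.two (h : Fq σ q) : (2 : K) ≠ 0 := fun e => by
  have := FiniteField.cast_card_eq_zero K
  obtain ⟨k, hk⟩ := h.odd.pow (n := 2)
  simp [h.card, hk, e] at this

theorem Fq.ex (h : Fq σ q) : ∃ δ : K, δ ≠ 0 ∧ σ δ = -δ := by
  by_contra! H
  have h1 := h.one_lt
  have := Nat.le_of_dvd (by omega) ((FiniteField.forall_pow_eq_one_iff K (q - 1)).1 fun x => by
    rw [← mul_left_inj x, ← pow_succ, Nat.sub_add_cancel h1.le, one_mul]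
    by_contra e
    refine H (x - σ x) (fun e' => e (Units.ext ?_)) (by rw [map_sub, h.inv, neg_sub])
    rw [Units.val_pow_eq_pow_val, ← h.pow, ← sub_eq_zero.1 e'])
  rw [h.card] at this
  have := Nat.lt_pow_self h1 (n := 2)
  have : q < q ^ 2 := by nlinarith
  omega

theorem Fq.prim (h : Fq σ q) :
    ∃ ζ : K, IsPrimitiveRoot ζ (2 ^ (padicValNat 2 (q + 1) + padicValNat 2 (q - 1))) := by
  obtain ⟨g, hg⟩ := IsCyclic.exists_ofOrder_eq_natCard (α := Kˣ)
  obtain ⟨c, hc⟩ : 2 ^ (padicValNat 2 (q + 1) + padicValNat 2 (q - 1)) ∣ orderOf g := by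
    rw [hg, Nat.card_units, Nat.card_eq_fintype_card, h.card, pow_add, ← one_pow 2, Nat.sq_sub_sq]
    exact mul_dvd_mul pow_padicValNat_dvd pow_padicValNat_dvd
  exact ⟨_, IsPrimitiveRoot.coe_units_iff.2
    ((IsPrimitiveRoot.orderOf g).pow (orderOf_pos g) (hc.trans (mul_comm _ _)))⟩

open Polynomial in
theorem glue (h : Fq σ q) (h' : Fq σ' q') (e : padicValNat 2 (q' + 1) + padicValNat 2 (q' - 1) =
      padicValNat 2 (q + 1) + padicValNat 2 (q - 1)) (n : ℕ) [NeZero n] :
    ∃ (C : Type) (_ : CommGroup C) (W : Subgroup (Perm (Fin n))) (χ : C →* K) (χ' : C →* K'),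
      IsPGroup 2 W ∧ (∀ c : C, c ^ 2 ^ (padicValNat 2 (q + 1) + padicValNat 2 (q - 1)) = 1) ∧
      FE (mon χ : Mn C W →* _) (mon χ') ∧
      (∀ m : Mn C W, GeneralLinearGroup.det (mon χ m) = 1 ↔ GeneralLinearGroup.det (mon χ' m) = 1) ∧
      ∀ m : Mn C W, mon χ m ∈ center _ ↔ mon χ' m ∈ center _ := by
  obtain ⟨ζ, hζ⟩ := h.prim
  obtain ⟨ζ', hζ'⟩ := h'.prim
  rw [e] at hζ'
  set a := padicValNat 2 (q + 1) + padicValNat 2 (q - 1)
  have hp : 0 < 2 ^ a := by positivity
  let R := AdjoinRoot (cyclotomic (2 ^ a) ℤ)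
  have : IsDomain R := AdjoinRoot.isDomain_of_prime (cyclotomic.irreducible hp).prime
  let f : R →+* K := AdjoinRoot.lift (Int.castRingHom K) ζ (by
    rw [eval₂_eq_eval_map, map_cyclotomic]; exact hζ.isRoot_cyclotomic hp)
  let f' : R →+* K' := AdjoinRoot.lift (Int.castRingHom K') ζ' (by
    rw [eval₂_eq_eval_map, map_cyclotomic]; exact hζ'.isRoot_cyclotomic hp)
  have : NeZero ((2 ^ a : ℕ) : K) := ⟨by simpa using fun e => absurd e h.two⟩
  have : NeZero ((2 ^ a : ℕ) : R) := NeZero.nat_of_neZero f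
  have hR : IsPrimitiveRoot (AdjoinRoot.root _ : R) (2 ^ a) := by
    have := AdjoinRoot.isRoot_root (cyclotomic (2 ^ a) ℤ)
    rwa [map_cyclotomic, isRoot_cyclotomic_iff] at this
  let C := rootsOfUnity (2 ^ a) R
  have hC : Nat.card C = 2 ^ a := hR.card_rootsOfUnity
  let χ : C →* R := (Units.coeHom R).comp C.subtype
  have hχ : ∀ c, χ c ^ 2 ^ a = 1 := fun c => (mem_rootsOfUnity' _ _).1 c.2
  have i1 : Function.Injective (f.toMonoidHom.comp χ) := (injective_iff_map_eq_one _).2 fun c hc =>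
    Subtype.ext (Units.ext (eq_one_of_two_pow f h.two hc (hχ c)))
  have i2 : Function.Injective (f'.toMonoidHom.comp χ) := (injective_iff_map_eq_one _).2 fun c hc =>
    Subtype.ext (Units.ext (eq_one_of_two_pow f' h'.two hc (hχ c)))
  obtain ⟨W⟩ : Nonempty (Sylow 2 (Perm (Fin n))) := inferInstance
  have hM := isPGroup_mn (.of_card hC) W.isPGroup'
  exact ⟨C, inferInstance, W, _, _, W.isPGroup', fun c => Subtype.ext c.2,
    ⟨se_mon h.card h.odd W i1 hC, se_mon h'.card h'.odd W i2 (by rw [e, hC]),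
      fun X => ⟨fz_mon f f' h.two h'.two hM χ, fz_mon f' f h'.two h.two hM χ⟩⟩,
    fun m => by rw [det_mon f h.two hM, det_mon f' h'.two hM],
    fun m => by rw [mon_mem_center i1, mon_mem_center i2]⟩

end Cfsg.Lib.Bmo
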