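import Cfsg.Agent.Bmo.Defs
import Cfsg.Agent.Bmo.H90

/-! Passing `2`-fusion to normal subgroups, central quotients and fixed points. -/

set_option autoImplicit false

namespace Cfsg.Lib.Bmo

open Subgroup Cfsg.Lib.Trans

variable {T G H G1 H1 : Type*} [Group T] [Group G] [Group H] [Group G1] [Group H1]
  {i : T →* G} {j : T →* H}

theorem exists_lift {φ : G1 →* G} (hφ : Function.Injective φ) (f : T →* G)
    (h : ∀ t, f t ∈ φ.range) : ∃ f' : T →* G1, ∀ t, φ (f' t) = f t :=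
  ⟨(MonoidHom.ofInjective hφ).symm.toMonoidHom.comp (f.codRestrict _ h),
    fun _ => MonoidHom.apply_ofInjective_symm hφ _⟩

/-- Elements of odd order lie in `N C(T)`. -/
def Od (j : T →* H) (N : Subgroup H) : Prop :=
  ∀ g : H, Odd (orderOf g) → ∃ c, (∀ t, Commute c (j t)) ∧ g * c ∈ N

theorem normal_aux [Finite G] [Finite H] (h : FE i j) {T1 : Subgroup T} {φ : G1 →* G}
    {ψ : H1 →* H} (hφ : Function.Injective φ) (hψ : Function.Injective ψ) [φ.range.Normal]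
    {i1 : T1 →* G1} {j1 : T1 →* H1} (ei : ∀ x, φ (i1 x) = i x) (ej : ∀ x, ψ (j1 x) = j x)
    (hi : ∀ t, i t ∈ φ.range → t ∈ T1) (oH : Od j ψ.range) :
    SE i1 ∧ ∀ X, Fz i1 X → Fz j1 X := by
  have := Finite.of_injective _ hφ
  have inj : Function.Injective i1 := fun x y e =>
    Subtype.ext (h.l.inj (by rw [← ei, ← ei, e]))
  have hS : IsSylowIn 2 i1.range ⊤ := by
    have := (h.l.syl.inf_normal_of_le (N := φ.range) (le_normalizer_of_normal) le_top).comap φ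
      (by rw [(MonoidHom.ker_eq_bot_iff φ).2 hφ]; exact IsPGroup.of_bot) le_rfl
    rw [MonoidHom.comap_range_self] at this
    convert this using 1
    ext g
    refine ⟨?_, fun ⟨⟨t, ht⟩, h2⟩ => ⟨⟨t, hi t (ht ▸ h2)⟩, hφ ((ei _).trans ht)⟩⟩
    rintro ⟨x, rfl⟩
    exact ⟨⟨x, (ei x).symm⟩, _, rfl⟩
  have key := alperin_odd hS (fun A g => ∃ k : H1, ∀ x, i1 x ∈ A →
    ∃ y, g * i1 x * g⁻¹ = i1 y ∧ k * j1 x * k⁻¹ = j1 y)
    (fun A B g e ⟨k, hk⟩ => ⟨k, fun x hx => hk x (e hx)⟩)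
    (fun A g g' ⟨k, hk⟩ ⟨k', hk'⟩ => ⟨k' * k, fun x hx => by
      obtain ⟨y, a, b⟩ := hk x hx
      obtain ⟨z, c, d⟩ := hk' y (a ▸ conj_mem_cj.2 hx)
      exact ⟨z, by rw [← c, ← a]; group, by rw [← d, ← b]; group⟩⟩)
    (fun A _ c hc => ⟨1, fun x hx => ⟨x, by rw [← hc _ hx, mul_inv_cancel_right], by simp⟩⟩)
    (fun _ ⟨t, ht⟩ => ⟨j1 t, fun x _ => ⟨t * x * t⁻¹, by simp [ht], by simp⟩⟩) ?_
  · refine ⟨⟨inj, hS⟩, fun X ⟨g, hg⟩ => ?_⟩
    obtain ⟨k, hk⟩ := key (i1.range ⊓ cj g⁻¹ i1.range) inf_le_left g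
      (cj_le_iff_le_cj_inv.2 inf_le_right)
    refine ⟨k, fun p hp => ?_⟩
    obtain ⟨y, a, b⟩ := hk p.1 ⟨⟨_, rfl⟩, mem_cj_inv.2 ⟨_, (hg p hp).symm⟩⟩
    rw [b, inj (a.symm.trans (hg p hp))]
  intro U hU _ _ n hn ho _
  obtain ⟨k, hk⟩ := (h.fus {p | ∃ x y : T1, n * i1 x * n⁻¹ = i1 y ∧ p = (x.1, y.1)}).1 ⟨φ n, by
    rintro _ ⟨x, y, e, rfl⟩
    rw [← ei, ← ei, ← e, map_mul, map_mul, map_inv]⟩
  have hm : ∀ (m : ℕ) x, i1 x ∈ U → ∃ y, i1 y ∈ U ∧ n ^ m * i1 x * (n ^ m)⁻¹ = i1 y ∧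
      k ^ m * j x * (k ^ m)⁻¹ = j y := fun m x hx => by
    induction m with
    | zero => exact ⟨x, hx, by simp, by simp⟩
    | succ m ih =>
      obtain ⟨y, a, b, c⟩ := ih
      have d := (mem_normalizer_iff.1 hn _).1 a
      obtain ⟨z, hz⟩ := hU d
      exact ⟨z, hz ▸ d, by rw [hz, ← b, pow_succ']; group,
        by rw [← hk _ ⟨y, z, hz.symm, rfl⟩, ← c, pow_succ']; group⟩
  obtain ⟨s, o, h1, h2⟩ := Nat.exists_eq_two_pow_mul_odd (orderOf_pos k).ne'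
  obtain ⟨r, hr⟩ := exists_pow_eq_self_of_coprime (x := n) (ho.symm.pow_left s)
  obtain ⟨c, c1, l, c2⟩ := oH (k ^ (2 ^ s * r)) (h1.of_dvd_nat (orderOf_dvd_of_pow_eq_one (by
    rw [← pow_mul, mul_right_comm, ← h2, pow_mul, pow_orderOf_eq_one, one_pow])))
  refine ⟨l, fun x hx => ?_⟩
  obtain ⟨y, -, a, b⟩ := hm (2 ^ s * r) x hx
  refine ⟨y, by rwa [pow_mul, hr] at a, hψ ?_⟩
  rw [map_mul, map_mul, map_inv, c2, ej, ej, ← b, mul_assoc _ c, (c1 _).eq]; group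

theorem FE.normal [Finite G] [Finite H] (h : FE i j) {φ : G1 →* G} {ψ : H1 →* H}
    (hφ : Function.Injective φ) (hψ : Function.Injective ψ) [φ.range.Normal] [ψ.range.Normal]
    (e : ∀ t, i t ∈ φ.range ↔ j t ∈ ψ.range) (oG : Od i φ.range) (oH : Od j ψ.range) :
    ∃ (T1 : Subgroup T) (i1 : T1 →* G1) (j1 : T1 →* H1), FE i1 j1 ∧ (∀ x, φ (i1 x) = i x) ∧
      ∀ x, ψ (j1 x) = j x := by
  obtain ⟨i1, ei⟩ := exists_lift hφ (i.comp (φ.range.comap i).subtype) fun t => t.2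
  obtain ⟨j1, ej⟩ := exists_lift hψ (j.comp (φ.range.comap i).subtype) fun t => (e _).1 t.2
  have a := normal_aux h hφ hψ ei ej (fun _ h => h) oH
  have b := normal_aux h.symm hψ hφ ej ei (fun t h => (e t).2 h) oG
  exact ⟨_, i1, j1, ⟨a.1, b.1, fun X => ⟨a.2 X, b.2 X⟩⟩, ei, ej⟩

theorem quot_aux [Finite G] (h : FE i j) {N : Subgroup T} [N.Normal]
    (hi : N = (center G).comap i) (hj : N = (center H).comap j) :
    SE (QuotientGroup.map N (center G) i hi.le) ∧ ∀ X, Fz (QuotientGroup.map N (center G) i hi.le) X →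
      Fz (QuotientGroup.map N (center H) j hj.le) X := by
  refine ⟨⟨(injective_iff_map_eq_one _).2 fun x hx => ?_, ?_⟩, fun X ⟨g, hg⟩ => ?_⟩
  · induction x using QuotientGroup.induction_on with | H x => ?_
    exact (QuotientGroup.eq_one_iff _).2 (hi.ge ((QuotientGroup.eq_one_iff (i x)).1 hx))
  · have := h.l.syl.map (QuotientGroup.mk' (center G))
    rw [map_top_of_surjective _ (QuotientGroup.mk'_surjective _)] at this
    convert this using 1
    ext g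
    refine ⟨fun ⟨x, e⟩ => ?_, fun ⟨_, ⟨x, rfl⟩, e⟩ => ⟨x, e⟩⟩
    induction x using QuotientGroup.induction_on with | H x => ?_
    exact ⟨_, ⟨x, rfl⟩, e⟩
  induction g using QuotientGroup.induction_on with | H g => ?_
  obtain ⟨k, hk⟩ := (h.fus {p | g * i p.1 * g⁻¹ = i p.2}).1 ⟨g, fun _ h => h⟩
  refine ⟨k, fun ⟨x, y⟩ hp => ?_⟩
  induction x using QuotientGroup.induction_on with | H x => ?_
  induction y using QuotientGroup.induction_on with | H y => ?_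
  have hz : (i y)⁻¹ * (g * i x * g⁻¹) ∈ center G := QuotientGroup.eq.1 (hg _ hp).symm
  obtain ⟨a, ha⟩ := h.l.two x
  obtain ⟨b, hb⟩ := h.l.two y
  have hc : Commute (i y)⁻¹ (g * i x * g⁻¹) := by
    have := (Commute.refl (i y)⁻¹).inv_right.mul_right (mem_center_iff.1 hz (i y)⁻¹)
    rwa [inv_inv, mul_inv_cancel_left] at this
  have h2 : ((i y)⁻¹ * (g * i x * g⁻¹)) ^ 2 ^ (a + b) = 1 := by
    rw [hc.mul_pow, conj_pow, inv_pow, ← map_pow, ← map_pow, pow_add, pow_mul x, ha,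
      mul_comm (2 ^ a), pow_mul, hb]
    simp
  obtain ⟨c, -, hc⟩ := (Nat.dvd_prime_pow Nat.prime_two).1 (orderOf_dvd_of_pow_eq_one h2)
  have : (zpowers ((i y)⁻¹ * (g * i x * g⁻¹))).Normal := ⟨fun w hw u => by
    rwa [mem_center_iff.1 (zpowers_le.2 hz hw) u, mul_inv_cancel_right]⟩
  obtain ⟨t, ht⟩ := h.l.syl.le_of_normal (IsPGroup.of_card ((Nat.card_zpowers _).trans hc)) le_top
    le_normalizer_of_normal (mem_zpowers _)
  have e := hk (x, y * t) (by change _ = i _; rw [map_mul, ht, mul_inv_cancel_left])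
  refine (QuotientGroup.eq.2 ?_).symm
  change (j y)⁻¹ * (k * j x * k⁻¹) ∈ _
  rw [e, map_mul, inv_mul_cancel_left]
  exact hj.le (hi.ge (show i t ∈ _ from ht ▸ hz))

theorem FE.quot [Finite G] [Finite H] (h : FE i j) (e : ∀ t, i t ∈ center G ↔ j t ∈ center H) :
    FusEq (G ⧸ center G) (H ⧸ center H) :=
  have a := quot_aux h rfl (Subgroup.ext e)
  have b := quot_aux h.symm (Subgroup.ext e) rfl
  FE.fusEq ⟨a.1, b.1, fun X => ⟨a.2 X, b.2 X⟩⟩

variable {M Γ Γ' A A' : Type*} [Group M] [Group Γ] [Group Γ'] [CommGroup A] [CommGroup A']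

/-- The twisted fixed points. -/
def Tm (τ : M →* M) (m : M) : Subgroup M := τ.eqLocus (MulAut.conj m⁻¹).toMonoidHom

/-- `G` is the group of fixed points of determinant one. -/
structure Side (τ : M →* M) (θ : Γ →* Γ) (ι : M →* Γ) (φ : G →* Γ) (D : Γ →* A) : Prop where
  inv : ∀ g, θ (θ g) = g
  comm : ∀ m, θ (ι m) = ι (τ m)
  lang : Lang θ
  inj : Function.Injective φ
  mem : ∀ g, g ∈ φ.range ↔ θ g = g ∧ D g = 1
  odd : ∀ h, θ h = h → Odd (orderOf h) → ∃ c, θ c = c ∧ (∀ m, Commute c (ι m)) ∧ D (h * c) = 1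
  cen : ∀ z ∈ center G, φ z ∈ center Γ

variable {τ : M →* M} {θ : Γ →* Γ} {ι : M →* Γ} {φ : G →* Γ} {D : Γ →* A}
  {θ' : Γ' →* Γ'} {ι' : M →* Γ'} {φ' : H →* Γ'} {D' : Γ' →* A'}

open MulAction in
theorem Side.cocycle [Finite Γ] (s : Side τ θ ι φ D) (hι : SE ι) {S : Subgroup Γ}
    (hS : IsPGroup 2 S) (hf : ∀ x ∈ S, θ x = x) :
    ∃ m, m * τ m = 1 ∧ Nat.card S ≤ Nat.card (Tm τ m) := by
  classical
  have := Finite.of_injective _ hι.inj
  let Q := Γ ⧸ ι.range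
  let t : Q → Q := Quotient.map' θ fun a b h => by
    rw [QuotientGroup.leftRel_apply] at h ⊢
    obtain ⟨m, hm⟩ := h
    exact ⟨τ m, by rw [← s.comm, hm, map_mul, map_inv]⟩
  have ts : ∀ (x : S) q, t (x • q) = x • t q := fun x q =>
    QuotientGroup.induction_on q fun g => congrArg QuotientGroup.mk
      (show θ (x * g) = x * θ g by rw [map_mul, hf x x.2])
  let f : fixedPoints S Q → fixedPoints S Q := fun q => ⟨t q, fun x => by rw [← ts, q.2 x]⟩
  have f2 : Function.Involutive f := fun ⟨q, _⟩ => Subtype.ext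
    (QuotientGroup.induction_on (C := fun q => t (t q) = q) q fun g => congrArg _ (s.inv g))
  have := Fintype.ofFinite (fixedPoints S Q)
  obtain ⟨⟨q, hq⟩, e⟩ := Equiv.Perm.exists_fixed_point_of_prime (p := 2) (n := 1) (σ := f2.toPerm)
    (by
      rw [← Nat.card_eq_fintype_card, ← (hS.card_modEq_card_fixedPoints Q).dvd_iff dvd_rfl]
      have := hι.syl.not_dvd
      rwa [relIndex_top_right] at this) (Equiv.ext f2)
  induction q using QuotientGroup.induction_on with | H g => ?_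
  obtain ⟨m, hm⟩ : g⁻¹ * θ g ∈ ι.range := QuotientGroup.eq.1 (congrArg Subtype.val e).symm
  obtain ⟨μ, hμ⟩ := exists_lift hι.inj ((MulAut.conj g⁻¹).toMonoidHom.comp S.subtype) fun x => by
    have : g⁻¹ * (x * g) ∈ ι.range := QuotientGroup.eq.1 (hq x).symm
    simpa [mul_assoc] using this
  refine ⟨m, hι.inj (by rw [map_mul, ← s.comm, hm]; simp [s.inv]), Nat.card_le_card_of_injective
    (fun x => ⟨μ x, hι.inj (by simp [← s.comm, hμ, hm, hf x x.2, mul_assoc])⟩) fun x y e => ?_⟩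
  have := congrArg (fun x => ι x.1) e
  simpa [hμ] using this

theorem Side.fix (s : Side τ θ ι φ D) (g : G) : φ g ∈ θ.eqLocus (MonoidHom.id Γ) :=
  ((s.mem _).1 ⟨g, rfl⟩).1

theorem Side.mem' (s : Side τ θ ι φ D) (g : θ.eqLocus (MonoidHom.id Γ)) :
    g ∈ (φ.codRestrict _ s.fix).range ↔ D g = 1 :=
  ⟨fun ⟨x, e⟩ => ((s.mem _).1 ⟨x, congrArg Subtype.val e⟩).2,
    fun h => ((s.mem _).2 ⟨g.2, h⟩).imp fun _ => Subtype.ext⟩

theorem Side.normal (s : Side τ θ ι φ D) : (φ.codRestrict _ s.fix).range.Normal :=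
  ⟨fun x hx g => (s.mem' _).2 (by simpa using (s.mem' _).1 hx)⟩

theorem Side.aux [Finite Γ] (s : Side τ θ ι φ D) (hι : SE ι) {m : M} (hm : m * τ m = 1)
    (hmax : ∀ m', m' * τ m' = 1 → Nat.card (Tm τ m') ≤ Nat.card (Tm τ m)) :
    ∃ (g : Γ) (i : Tm τ m →* θ.eqLocus (MonoidHom.id Γ)), (∀ t, (i t : Γ) = g * ι t * g⁻¹) ∧ SE i ∧
      (∀ X, Fz i X ↔ Fz (ι.comp (Tm τ m).subtype) X) ∧ Od i (φ.codRestrict _ s.fix).range := by
  obtain ⟨b, hb, -⟩ := s.lang (ι m) (by rw [s.comm, ← map_mul, hm, map_one])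
  have hb' : θ b = (ι m)⁻¹ * b := eq_inv_mul_iff_mul_eq.2 hb
  let i : Tm τ m →* θ.eqLocus (MonoidHom.id Γ) :=
    ((MulAut.conj b⁻¹).toMonoidHom.comp (ι.comp (Tm τ m).subtype)).codRestrict _ fun t => by
      have : τ t = _ := t.2
      change θ _ = _
      simp [hb', s.comm, this, mul_assoc]
  have ei : ∀ t, (i t : Γ) = b⁻¹ * ι t * b⁻¹⁻¹ := fun _ => rfl
  have inj : Function.Injective i := fun x y e => by
    have := congrArg Subtype.val e
    rw [ei, ei, mul_left_inj, mul_right_inj] at this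
    exact Subtype.ext (hι.inj this)
  refine ⟨b⁻¹, i, ei, ⟨inj, ?_⟩, fun X => ⟨fun ⟨h, e⟩ => ⟨b * h * b⁻¹, fun p hp => ?_⟩,
    fun ⟨k, e⟩ => ?_⟩, fun h ho => ?_⟩
  · obtain ⟨S, hS⟩ := exists_isSylowIn (p := 2) (⊤ : Subgroup (θ.eqLocus (MonoidHom.id Γ)))
    obtain ⟨m', h1, h2⟩ := s.cocycle hι (hS.isPGroup.map (Subgroup.subtype _))
      (by rintro _ ⟨x, -, rfl⟩; exact x.2)
    refine hS.of_card_ge ((hι.two.to_subgroup _).of_equiv (MonoidHom.ofInjective inj)) le_top ?_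
    rw [← Nat.card_congr (MonoidHom.ofInjective inj).toEquiv,
      ← card_map_of_injective (subtype_injective _)]
    exact h2.trans (hmax _ h1)
  · have : (h : Γ) * i p.1 * (h : Γ)⁻¹ = i p.2 := congrArg Subtype.val (e p hp)
    rw [ei, ei] at this
    change _ * ι p.1 * _ = ι p.2
    rw [← mul_left_inj b⁻¹⁻¹, ← mul_right_inj b⁻¹, ← mul_assoc _ (ι p.2), ← this]; group
  · have e1 : ∀ p ∈ X, b⁻¹ * k * b * i p.1 * (b⁻¹ * k * b)⁻¹ = i p.2 := fun p hp => by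
      have : k * ι p.1 * k⁻¹ = ι p.2 := e p hp
      rw [ei, ei, ← this]; group
    generalize b⁻¹ * k * b = h at e1
    obtain ⟨c, c1, c2⟩ := s.lang (h⁻¹ * θ h) (by simp [s.inv])
    refine ⟨⟨h * c, show θ _ = h * c by rw [map_mul]; nth_rewrite 2 [← c1]; group⟩,
      fun p hp => Subtype.ext ?_⟩
    have e2 := congrArg θ (e1 p hp)
    rw [map_mul, map_mul, map_inv, show θ (i p.1) = i p.1 from (i p.1).2,
      show θ (i p.2) = i p.2 from (i p.2).2, ← e1 p hp] at e2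
    have e3 := c2 (i p.1) (show _ * _ = _ * _ by
      rw [mul_assoc, mul_inv_eq_iff_eq_mul.1 e2]; group)
    change h * c * i p.1 * (h * c)⁻¹ = i p.2
    rw [← e1 p hp, mul_assoc h, e3.eq]; group
  · obtain ⟨c, c1, c2, c3⟩ := s.odd h h.2 (by rwa [orderOf_coe])
    refine ⟨⟨b⁻¹ * c * b, show θ _ = b⁻¹ * c * b by
      simp [hb', c1, mul_assoc, (c2 m).symm.left_comm]⟩, fun t => Subtype.ext ?_,
      (s.mem' _).2 (by simpa using c3)⟩
    change _ * (i t : Γ) = i t * _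
    simp [ei, mul_assoc, (c2 t).left_comm]

theorem Side.cen' (s : Side τ θ ι φ D) {x : G} {g y : Γ} (e : φ x = g * y * g⁻¹) :
    x ∈ center G ↔ y ∈ center Γ :=
  ⟨fun h => by simpa [e, mul_assoc] using (normal_of_characteristic _).conj_mem _ (s.cen _ h) g⁻¹,
    fun h => mem_center_iff.2 fun w => s.inj (by
      rw [map_mul, map_mul, e]
      exact mem_center_iff.1 ((normal_of_characteristic _).conj_mem _ h g) _)⟩

theorem Side.main [Finite Γ] [Finite Γ'] (s : Side τ θ ι φ D) (s' : Side τ θ' ι' φ' D')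
    (h : FE ι ι') (hD : ∀ m, D (ι m) = 1 ↔ D' (ι' m) = 1)
    (hZ : ∀ m, ι m ∈ center Γ ↔ ι' m ∈ center Γ') : FusEq (G ⧸ center G) (H ⧸ center H) := by
  have := Finite.of_injective _ h.l.inj
  have := Finite.of_injective _ s.inj
  have := Finite.of_injective _ s'.inj
  obtain ⟨m, hm, hmax⟩ := Set.exists_max_image {m | m * τ m = 1} (fun m => Nat.card (Tm τ m))
    (Set.toFinite _) ⟨1, by simp⟩
  obtain ⟨g, i, ei, a, b, c⟩ := s.aux h.l hm hmax
  obtain ⟨g', j, ej, a', b', c'⟩ := s'.aux h.r hm hmax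
  have := s.normal
  have := s'.normal
  obtain ⟨T1, i1, j1, h1, e1, e2⟩ := FE.normal
    ⟨a, a', fun X => by rw [b, b', fz_comp, fz_comp, h.fus]⟩
    (fun x y e => s.inj (congrArg Subtype.val e)) (fun x y e => s'.inj (congrArg Subtype.val e))
    (fun t => by simpa [s.mem', s'.mem', ei, ej] using hD t) c c'
  exact h1.quot fun t => by
    rw [s.cen' ((congrArg Subtype.val (e1 t)).trans (ei _)),
      s'.cen' ((congrArg Subtype.val (e2 t)).trans (ej _)), hZ]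

end Cfsg.Lib.Bmo
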